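import Groth.Agent.H26.Punctured
import Groth.Agent.Lib.Ideal.Prime
import Mathlib.AlgebraicGeometry.Noetherian
import Mathlib.AlgebraicGeometry.Morphisms.Separated
import Mathlib.Topology.Sober

/-!
# Opens with affine inclusion containing a dense open of a Noetherian scheme
-/

universe u

open CategoryTheory AlgebraicGeometry TopologicalSpace

namespace Groth.Agent.H15.AffOpen.Codim

open Groth.Agent.Lib.Ideal.Prime (exists_maximal_generization)

section Top

variable {α : Type*} [TopologicalSpace α] [NoetherianSpace α] [QuasiSober α] [T0Space α]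

theorem finite_genericPoints : (genericPoints α).Finite :=
  genericPoints.finite NoetherianSpace.finite_irreducibleComponents

theorem exists_genericPoint_specializes (x : α) : ∃ g ∈ genericPoints α, g ⤳ x := by
  have h : x ∈ closure (⋃ g ∈ genericPoints α, {g}) := by
    rw [Set.biUnion_of_singleton, genericPoints.closure]
    trivial
  rw [(finite_genericPoints (α := α)).closure_biUnion] at h
  obtain ⟨g, hg, hx⟩ := Set.mem_iUnion₂.mp h
  exact ⟨g, hg, specializes_iff_mem_closure.mpr hx⟩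

theorem mem_of_dense_of_maximal {U : Set α} (hU : IsOpen U) (hd : Dense U) {ξ : α}
    (hξ : ∀ w, w ⤳ ξ → w = ξ) : ξ ∈ U := by
  let W : Set α := (⋃ g ∈ genericPoints α \ {ξ}, closure {g})ᶜ
  have hW : IsOpen W := (((finite_genericPoints (α := α)).sdiff).isClosed_biUnion
    fun _ _ => isClosed_closure).isOpen_compl
  have hξW : ξ ∈ W := fun h => by
    obtain ⟨g, hg, hx⟩ := Set.mem_iUnion₂.mp h
    exact hg.2 (hξ g (specializes_iff_mem_closure.mpr hx))
  obtain ⟨u, huW, huU⟩ := hd.inter_open_nonempty W hW ⟨ξ, hξW⟩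
  obtain ⟨g, hg, hgu⟩ := exists_genericPoint_specializes u
  by_cases e : g = ξ
  · exact e ▸ hgu.mem_open hU huU
  · exact absurd (Set.mem_iUnion₂.mpr ⟨g, ⟨hg, e⟩, specializes_iff_mem_closure.mp hgu⟩) huW

end Top

/-- The maximal points of a closed subset of a Noetherian space are finitely many. -/
theorem finite_maximal_points {α : Type*} [TopologicalSpace α] [NoetherianSpace α] [QuasiSober α]
    [T0Space α] {Z : Set α} (hZ : IsClosed Z) :
    {x ∈ Z | ∀ w ∈ Z, w ⤳ x → w = x}.Finite := by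
  have : QuasiSober Z := hZ.isClosedEmbedding_subtypeVal.quasiSober
  refine ((finite_genericPoints (α := Z)).image Subtype.val).subset ?_
  rintro x ⟨hx, hmax⟩
  obtain ⟨g, hg, hgx⟩ := exists_genericPoint_specializes (⟨x, hx⟩ : Z)
  exact ⟨g, hg, hmax g g.2 (by simpa only [subtype_specializes_iff] using hgx)⟩

variable {S : Scheme.{u}}

theorem isAffineHom_ι_iff [S.IsSeparated] (V : S.Opens) :
    IsAffineHom V.ι ↔ ∀ W : S.Opens, IsAffineOpen W → IsAffineOpen (V ⊓ W) := by
  refine ⟨fun h W hW => ?_, fun h => ⟨fun W hW => ?_⟩⟩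
  · have := (V.ι.isAffineOpen_iff_of_isOpenImmersion).mpr (hW.preimage V.ι)
    rwa [V.ι.image_preimage_eq_opensRange_inf, Scheme.Opens.opensRange_ι] at this
  · rw [← V.ι.isAffineOpen_iff_of_isOpenImmersion, V.ι.image_preimage_eq_opensRange_inf,
      Scheme.Opens.opensRange_ι]
    exact h W hW

/-- A maximal point outside an open with affine inclusion has a local ring of dimension at most
one, so it is maximal outside any dense open contained in it. -/
theorem maximal_of_affine [IsNoetherian S] [S.IsSeparated] {U V : S.Opens} (hd : Dense (U : Set S))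
    (hUV : U ≤ V) [IsAffineHom V.ι] {η : S} (hη : η ∉ V) (hmax : ∀ w, w ∉ V → w ⤳ η → w = η) :
    η ∈ {x ∈ (U : Set S)ᶜ | ∀ w ∈ (U : Set S)ᶜ, w ⤳ x → w = x} := by
  refine ⟨fun h => hη (hUV h), fun ζ hζ hζη => ?_⟩
  let O := S.presheaf.stalk η
  let f : Spec O ⟶ S := S.fromSpecStalk η
  have hsp : ∀ b : Spec O, f b ⤳ η := fun b => by
    have : f b ∈ Set.range f := ⟨b, rfl⟩
    rwa [Scheme.range_fromSpecStalk] at this
  have hcl : f (IsLocalRing.closedPoint O) = η := Scheme.fromSpecStalk_closedPoint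
  have hpre : f ⁻¹ᵁ V = FEt.puncturedSpec O := by
    ext b
    show f b ∈ V ↔ b ≠ IsLocalRing.closedPoint O
    refine ⟨fun h e => hη ?_, fun h => ?_⟩
    · rw [← hcl, ← e]; exact h
    · by_contra h'
      exact h (f.isEmbedding.injective ((hmax _ h' (hsp b)).trans hcl.symm))
  obtain ⟨W, hW, hηW, -⟩ := exists_isAffineOpen_mem_and_subset
    (show η ∈ (⊤ : S.Opens) from trivial)
  have hfW : f ⁻¹ᵁ W = ⊤ := top_le_iff.mp fun b _ => (hsp b).mem_open W.2 hηW
  have : IsAffineHom f := by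
    have : IsAffineHom (f ≫ Limits.terminal.from S) := inferInstance
    exact IsAffineHom.of_comp f (Limits.terminal.from S)
  have haff : IsAffineOpen (FEt.puncturedSpec O) := by
    have h := ((isAffineHom_ι_iff V).mp inferInstance W hW).preimage f
    have he : f ⁻¹ᵁ (V ⊓ W) = FEt.puncturedSpec O := by
      rw [show f ⁻¹ᵁ (V ⊓ W) = f ⁻¹ᵁ V ⊓ f ⁻¹ᵁ W from rfl, hfW, inf_top_eq, hpre]
    rwa [he] at h
  have hdim := Groth.Agent.H26.Punctured.ringKrullDim_le_one_of_isAffineOpen O haff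
  by_contra hne
  obtain ⟨ξ, -, hξζ, hξ⟩ := exists_maximal_generization isClosed_univ (Set.mem_univ ζ)
  have hξU : ξ ∈ (U : Set S) :=
    mem_of_dense_of_maximal U.2 hd fun w hw => hξ w (Set.mem_univ _) hw
  have hlift : ∀ {w : S}, w ⤳ η → ∃ b, f b = w := fun {w} hw => by
    have : w ∈ Set.range f := by rw [Scheme.range_fromSpecStalk]; exact hw
    exact this
  obtain ⟨a, ha⟩ := hlift (hξζ.trans hζη)
  obtain ⟨b, hb⟩ := hlift hζη
  have hab : a ⤳ b := f.isEmbedding.specializes_iff.mp (by rw [ha, hb]; exact hξζ)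
  let a' : PrimeSpectrum O := a
  let b' : PrimeSpectrum O := b
  let c' : PrimeSpectrum O := IsLocalRing.closedPoint O
  have h1 : a' < b' := lt_of_le_of_ne ((PrimeSpectrum.le_iff_specializes a' b').mpr hab) fun e =>
    hζ (by
      have e' : f a = f b := congrArg f e
      rw [ha, hb] at e'
      rwa [e'] at hξU)
  have h2 : b' < c' := lt_of_le_of_ne (IsLocalRing.le_maximalIdeal b'.2.ne_top) fun e =>
    hne (by
      have e' : f b = f (IsLocalRing.closedPoint O) := congrArg f e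
      rwa [hb, hcl] at e')
  let z : LTSeries (PrimeSpectrum O) := ⟨2, ![a', b', c'], fun i => by
    fin_cases i <;> simpa⟩
  have h21 : ((2 : ℕ) : WithBot ℕ∞) ≤ ((1 : ℕ) : WithBot ℕ∞) :=
    (Order.LTSeries.length_le_krullDim z).trans hdim
  norm_cast at h21

theorem finite_and_exists_min [IsNoetherian S] [S.IsSeparated] (U : S.Opens)
    (hd : Dense (U : Set S)) :
    Set.Finite {V : S.Opens | U ≤ V ∧ IsAffineHom V.ι} ∧
      ∃ V₀ : S.Opens, (U ≤ V₀ ∧ IsAffineHom V₀.ι) ∧
        ∀ V : S.Opens, U ≤ V → IsAffineHom V.ι → V₀ ≤ V := by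
  have hF := finite_maximal_points (U.2.isClosed_compl)
  have hfin : Set.Finite {V : S.Opens | U ≤ V ∧ IsAffineHom V.ι} := by
    refine Set.Finite.of_finite_image (f := fun V : S.Opens =>
      {x ∈ {x ∈ (U : Set S)ᶜ | ∀ w ∈ (U : Set S)ᶜ, w ⤳ x → w = x} | x ∉ V})
      (hF.finite_subsets.subset ?_) ?_
    · rintro _ ⟨V, -, rfl⟩ x hx
      exact hx.1
    · suffices ∀ V₁ V₂ : S.Opens, U ≤ V₁ → IsAffineHom V₁.ι →
          (∀ x ∈ {x ∈ (U : Set S)ᶜ | ∀ w ∈ (U : Set S)ᶜ, w ⤳ x → w = x}, x ∉ V₁ → x ∉ V₂) →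
          V₂ ≤ V₁ by
        rintro V₁ ⟨hU₁, h₁⟩ V₂ ⟨hU₂, h₂⟩ e
        have he := Set.ext_iff.mp e
        exact le_antisymm (this V₂ V₁ hU₂ h₂ fun x hx hxV => ((he x).mpr ⟨hx, hxV⟩).2)
          (this V₁ V₂ hU₁ h₁ fun x hx hxV => ((he x).mp ⟨hx, hxV⟩).2)
      intro V₁ V₂ hU₁ h₁ h y hy₂
      by_contra hy₁
      obtain ⟨η, hη, hηy, hmax⟩ := exists_maximal_generization V₁.2.isClosed_compl hy₁
      exact h η (maximal_of_affine hd hU₁ hη fun w hw => hmax w hw) hη (hηy.mem_open V₂.2 hy₂)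
  refine ⟨hfin, hfin.toFinset.inf id, ⟨Finset.le_inf fun V hV => ?_, ?_⟩,
    fun V hUV hV => Finset.inf_le (f := id) (hfin.mem_toFinset.mpr ⟨hUV, hV⟩)⟩
  · exact (hfin.mem_toFinset.mp hV).1
  · rw [isAffineHom_ι_iff]
    refine Finset.inf_induction (p := fun V : S.Opens => ∀ W, IsAffineOpen W → IsAffineOpen (V ⊓ W))
      (fun W hW => by rwa [top_inf_eq]) (fun V₁ h₁ V₂ h₂ W hW => ?_)
      (fun V hV => (isAffineHom_ι_iff V).mp (hfin.mem_toFinset.mp hV).2)
    rw [inf_assoc]
    exact h₁ _ (h₂ W hW)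

end Groth.Agent.H15.AffOpen.Codim
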